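import Cfsg.Agent.ASI.Pair

/-! Groups with abelian Sylow 2-intersections: if all essential subgroups come in pairs of index two, then the Sylow
2-subgroup is dihedral (`dihedral`). -/
set_option autoImplicit false
set_option linter.unusedSectionVars false
open Subgroup Cfsg Cfsg.Agent.BG Cfsg.Agent.Invol Cfsg.Agent.DD
open scoped commutatorElement

namespace Cfsg.Agent.ASI
variable {G : Type*} [Group G] [Finite G] {A B B' D E E' M : Subgroup G} {a b c c' d g k n p q r s s' t u v w x y z : G}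
  {P : Sylow 2 G}

theorem dn_of (ha : a ∈ (P : Subgroup G)) (hb : b ∈ (P : Subgroup G)) (e1 : a * a = 1) (e2 : b * b = 1) (n : ¬ Commute a b) :
    ∃ m, orderOf (a * b) = 2 ^ (m + 2) ∧ DG (zpowers a ⊔ zpowers (a * b)) a (a * b) := by
  have i : a * (a * b) * a⁻¹ = (a * b)⁻¹ := by
    rw [← mul_assoc, e1, one_mul, mul_inv_rev, inv_eq_of_mul_eq_one_right e2]
  obtain ⟨k, hk⟩ := P.2 ⟨_, mul_mem ha hb⟩
  obtain ⟨j, -, e⟩ := (Nat.dvd_prime_pow Nat.prime_two).1 (orderOf_dvd_of_pow_eq_one (congrArg Subtype.val hk :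
    (a * b) ^ 2 ^ k = 1))
  have n2 : ¬ (a * b) ^ 2 = 1 := fun e => n (by
    rw [sq, mul_eq_one_iff_eq_inv, mul_inv_rev, inv_eq_of_mul_eq_one_right e1, inv_eq_of_mul_eq_one_right e2] at e; exact e)
  rw [← orderOf_dvd_iff_pow_eq_one, e] at n2
  rcases j with _ | _ | j
  · simp at n2
  · simp at n2
  refine ⟨j, e, e1, i, fun m => n (by simpa [← mul_assoc, e1] using (Commute.refl a).mul_right (rot_comm m (mem_zpowers _))),
    fun d => ⟨fun m => ?_, ?_⟩⟩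
  · obtain ⟨x, hx, _, ⟨l, rfl⟩, rfl⟩ := (mem_sup_normr (zpowers_le.2 (mem_norm_of_cj_le (by
      rw [cj_zpowers, i, zpowers_le]; exact inv_mem (mem_zpowers _))))).1 m
    exact ⟨l, ((mem_zpowers_invol e1).1 hx).imp (fun e => by simp [e]) fun e => by rw [e]⟩
  · rintro ⟨l, rfl | rfl⟩
    exacts [mem_sup_right ⟨l, rfl⟩, mul_mem_sup (mem_zpowers _) ⟨l, rfl⟩]

theorem Yn_cj (hn : n ∈ N[(P : Subgroup G)]) (hy : y ∈ Yn P D) : n * y * n⁻¹ ∈ Yn P (cj n D) :=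
  mem_Yn.2 ⟨conj_mem_cj n (Yn_le hy), fun g hg => by
    have := conj_mem_cj n ((mem_Yn.1 hy).2 _ (mem_cj.1 ((N_cj n D).le hg)))
    rwa [← C_cj, ← cj_mul, ← mul_assoc, mul_inv_cancel_left, cj_mul, cj_Tn hn] at this⟩

namespace CC
theorem ex (h : CC P D c) (hD : Ess P D) : ∃ t ∈ Tn P D, ∃ d ∈ D, ⁅t, d⁆ = c := by
  by_contra! n
  exact hD.nab fun t ht => mem_cent.2 fun d hd =>
    (commutatorElement_eq_one_iff_mul_comm.1 ((h.cm t ht d hd).resolve_right (n t ht d hd))).symm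
theorem ne (h : CC P D c) : c ≠ 1 := fun e => h.nY (e ▸ one_mem _)
theorem uq (h : CC P D c) (h' : CC P D c') (hD : Ess P D) : c = c' := by
  obtain ⟨t, ht, d, hd, rfl⟩ := h.ex hD
  exact (h'.cm t ht d hd).resolve_left h.ne
theorem fix (h : CC P D c) (hD : Ess P D) (hg : g ∈ N[D]) (e : cj g (Rn P D) = Rn P D) : g * c * g⁻¹ = c := by
  obtain ⟨t, ht, d, hd, rfl⟩ := h.ex hD
  obtain ⟨u, hu, x, hx, e⟩ := (mem_sup_normr (inf_le_right.trans (cent_norm D))).1 (e.le (conj_mem_cj g (mem_sup_left ht)))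
  have c := commutatorElement_eq_one_iff_mul_comm.2 (mem_cent.1 hx _ (conj_mem_of_norm hg hd)).symm
  have e2 : g * ⁅t, d⁆ * g⁻¹ = ⁅u, g * d * g⁻¹⁆ := by
    rw [conjugate_commutatorElement, e, cm_mul' (c ▸ one_mem _), c, one_mul]
  exact (e2 ▸ h.cm u hu _ (conj_mem_of_norm hg hd)).resolve_left fun e => h.ne (conj_eq_one_iff.1 e)
theorem cB (h : CC P D c) (k : PR P D A s) (hU : UQ P) : c ∈ A := by
  obtain ⟨t, ht, d, hd, rfl⟩ := h.ex k.eD
  obtain ⟨b, hb, x, hx, rfl⟩ := k.decT hU ht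
  rw [cm_mul' (by rw [cm1 k.eD.ab hx hd]; exact one_mem _), cm1 k.eD.ab hx hd, one_mul]
  exact (k.cm hb hd).2

theorem orb (h : CC P D c) (k : PR P D A s) (hU : UQ P) : ∃ w ∈ D, w ∉ A ∧ (∃ g ∈ N[D], g * c * g⁻¹ = w) ∧
    ∀ g ∈ N[D], g * c * g⁻¹ = c ∨ g * c * g⁻¹ = w ∨ g * c * g⁻¹ = c * w := by
  obtain ⟨x, l⟩ := k.lp hU
  have m := conj_mem_of_norm l.hH h.mem
  refine ⟨_, m, fun q => h.nY ((conj_mem_iff_of_norm (norm_Yn l.hH)).1 (l.eY _ ⟨m, k.eA.ab q⟩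
    (conj_mem_cj x ⟨h.mem, k.eA.ab (h.cB k hU)⟩))), ⟨x, l.hH, rfl⟩, fun g hg => (l.all g hg).imp (h.fix k.eD hg) ?_⟩
  rintro ⟨a, ha, e⟩
  have := h.fix k.eD (mul_mem (inv_mem (mul_mem (k.lA ha) l.hH)) hg) (by rw [cj_mul, e, ← cj_mul, inv_mul_cancel, cj_one])
  have e2 : g * c * g⁻¹ = ⁅a, x * c * x⁻¹⁆ * (x * c * x⁻¹) := by
    rw [commutatorElement_def, inv_mul_cancel_right]; nth_rw 2 [← this]; group
  exact (h.cm a (k.lT ha) _ m).imp (fun e => by rw [e2, e, one_mul]) fun e => by rw [e2, e]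

theorem cz (h : CC P D c) (k : PR P D A s) (hU : UQ P) (hw : w ∈ D) (n : w ∉ A) (hM : DN M a r z) (l : M ≤ P)
    (hx : Rf M r w) : z = c := by
  obtain ⟨q, hq, e⟩ := hM.cjz hx
  have c := hM.cz w hx.1
  have := h.cm q (k.nrm hU hw n (l hq) (e ▸ (Commute.refl w).mul_left c.symm)) w hw
  rw [commutatorElement_def, e, c.eq, mul_inv_cancel_right] at this
  exact this.resolve_left hM.z1

theorem same (h : CC P D c) (k : PR P D A s) (h' : CC P E c') (k' : PR P E B s') (hU : UQ P) : c = c' := by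
  obtain ⟨w, hw, n, e⟩ := k.exw hU
  obtain ⟨w', hw', n', e'⟩ := k'.exw hU
  by_cases q : Commute w w'
  · obtain rfl := k.eD.eq_of_le k'.eD.ab k'.eD.le fun x hx => k'.cen hU hw' n' (k.eD.le hx)
      (cmm k.eD.ab hx (k.cen hU hw n (k'.eD.le hw') q.symm))
    exact h.uq h' k.eD
  obtain ⟨m, o, hM⟩ := dn_of (k.eD.le hw) (k'.eD.le hw') e e' q
  have l := sup_le (zpowers_le.2 (k.eD.le hw)) (zpowers_le.2 (mul_mem (k.eD.le hw) (k'.eD.le hw')))
  exact (h.cz k hU hw n (hM.dn o) l hM.rf_a).symm.trans (h'.cz k' hU hw' n' (hM.dn o) l (by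
    simpa [← mul_assoc, e] using hM.rf_a.mul hM (mem_zpowers _)))
end CC

/-- The conjugates of `c` in the normalizers of essential subgroups. -/
def Wc (P : Sylow 2 G) (c w : G) : Prop := ∃ E, Ess P E ∧ w ≠ c ∧ ∃ g ∈ N[E], g * c * g⁻¹ = w

/-- All essential subgroups come in pairs of index two, with the same `c`. -/
structure AC (P : Sylow 2 G) (c : G) : Prop where
  uq : UQ P
  pr : ∀ E, Ess P E → CC P E c ∧ ∃ B s, PR P E B s ∧ R2 E B
  ex : ∃ E, Ess P E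

namespace AC
variable (h : AC P c)
include h
theorem fix (hn : n ∈ N[(P : Subgroup G)]) : n * c * n⁻¹ = c := by
  obtain ⟨E, hE⟩ := h.ex
  obtain ⟨t, ht, d, hd, e⟩ := (h.pr E hE).1.ex hE
  have := (h.pr _ (hE.cj hn)).1.cm _ ((cj_Tn hn).le (conj_mem_cj n ht)) _ (conj_mem_cj n hd)
  rw [← conjugate_commutatorElement, e] at this
  exact this.resolve_left fun e => (h.pr E hE).1.ne (conj_eq_one_iff.1 e)
theorem cc : c * c = 1 := h.ex.elim fun E hE => (h.pr E hE).1.sq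
theorem ne : c ≠ 1 := h.ex.elim fun E hE => (h.pr E hE).1.ne
theorem wcj (hw : Wc P c w) (hn : n ∈ N[(P : Subgroup G)]) : Wc P c (n * w * n⁻¹) := by
  obtain ⟨E, hE, ne, g, hg, rfl⟩ := hw
  exact ⟨_, hE.cj hn, fun e => ne (by simpa using e.trans (h.fix hn).symm), _, (N_cj n E).ge (conj_mem_cj n hg),
    by nth_rw 1 [← h.fix hn]; group⟩
theorem wsq (hw : Wc P c w) : w * w = 1 := by obtain ⟨E, hE, ne, g, hg, rfl⟩ := hw; exact sq_cj h.cc g
theorem wE (hE : Ess P E) : ∃ B s, PR P E B s ∧ R2 E B ∧ ∃ w ∈ E, w ∉ B ∧ Wc P c w ∧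
    ∀ g ∈ N[E], g * c * g⁻¹ = c ∨ g * c * g⁻¹ = w ∨ g * c * g⁻¹ = c * w := by
  obtain ⟨hc, B, s, k, r⟩ := h.pr E hE
  obtain ⟨w, hw, n, o1, o2⟩ := hc.orb k h.uq
  exact ⟨B, s, k, r, w, hw, n, ⟨E, hE, fun e => n (e ▸ hc.cB k h.uq), o1⟩, o2⟩
theorem wex (hw : Wc P c w) : ∃ E B s, PR P E B s ∧ w ∈ E ∧ w ∉ B ∧
    ∀ g ∈ N[E], g * c * g⁻¹ = c ∨ g * c * g⁻¹ = w ∨ g * c * g⁻¹ = c * w := by
  obtain ⟨E, hE, ne, g, hg, e⟩ := hw
  obtain ⟨B, s, k, -, v, hv, n, -, o⟩ := h.wE hE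
  rcases (e ▸ o g hg).resolve_left ne with rfl | rfl
  · exact ⟨E, B, s, k, hv, n, o⟩
  exact ⟨E, B, s, k, mul_mem (h.pr E hE).1.mem hv, fun m => n ((mul_mem_cancel_left ((h.pr E hE).1.cB k h.uq)).1 m),
    fun g hg => by rw [← mul_assoc c, h.cc, one_mul]; exact (o g hg).imp_right Or.symm⟩
theorem wP (hw : Wc P c w) : w ∈ (P : Subgroup G) := by obtain ⟨E, B, s, k, m, -⟩ := h.wex hw; exact k.eD.le m
theorem w3 (hw : Wc P c w) (hx : x ∈ (P : Subgroup G)) (q : Commute x w) : x * x ≠ c := fun e => by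
  obtain ⟨E, B, s, k, m, n, -⟩ := h.wex hw
  exact (h.pr E k.eD).1.nY (e ▸ k.sqY h.uq (k.cen h.uq m n hx q))
theorem w4 (hw : Wc P c w) (hv : Wc P c v) (q : Commute v w) : v = w ∨ v = c * w := by
  obtain ⟨E, B, s, k, m, n, o⟩ := h.wex hw
  obtain ⟨E', hE, ne, g, hg, e⟩ := id hv
  obtain ⟨B', s', k', -, u, hu, nu, -, o'⟩ := h.wE hE
  have m' : v ∈ E' := e ▸ conj_mem_of_norm hg (h.pr E' hE).1.mem
  have n' : v ∉ B' := by
    rcases (e ▸ o' g hg).resolve_left ne with rfl | rfl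
    exacts [nu, fun m => nu ((mul_mem_cancel_left ((h.pr E' hE).1.cB k' h.uq)).1 m)]
  obtain rfl := k.eD.eq_of_le hE.ab hE.le fun x hx => k'.cen h.uq m' n' (k.eD.le hx)
    (cmm k.eD.ab hx (k.cen h.uq m n (hE.le m') q))
  exact (e ▸ o g hg).resolve_left ne

theorem exM : ∃ M w r, DN M w r c ∧ 2 ≤ orderOf r ∧ M ≤ P ∧ N[(P : Subgroup G)] ≤ N[M] ∧ ∀ x, Wc P c x → x ∈ M := by
  obtain ⟨D, hD⟩ := h.ex
  obtain ⟨A, s, k, -, w0, m0, n0, W0, -⟩ := h.wE hD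
  obtain ⟨⟨w, v⟩, ⟨hw, hv, nc⟩, mx⟩ := Set.exists_max_image {x : G × G | Wc P c x.1 ∧ Wc P c x.2 ∧ ¬ Commute x.1 x.2}
    (fun x => orderOf (x.1 * x.2)) (Set.toFinite _) ⟨(s * w0 * s⁻¹, w0), h.wcj W0 (normG _ k.sP), W0, fun q =>
      (k.out m0 n0).2 (k.cen h.uq m0 n0 (k.eA.le (k.out m0 n0).1) q)⟩
  simp only at hw hv nc mx
  obtain ⟨m, o, hM⟩ := dn_of (h.wP hw) (h.wP hv) (h.wsq hw) (h.wsq hv) nc
  have l := sup_le (zpowers_le.2 (h.wP hw)) (zpowers_le.2 (mul_mem (h.wP hw) (h.wP hv)))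
  have ev : w * (w * v) = v := by rw [← mul_assoc, h.wsq hw, one_mul]
  have nM : ∀ n, n * w * n⁻¹ ∈ zpowers w ⊔ zpowers (w * v) → n * v * n⁻¹ ∈ zpowers w ⊔ zpowers (w * v) →
      n ∈ N[zpowers w ⊔ zpowers (w * v)] := fun n m1 m2 => mem_norm_of_cj_le (by
    rw [cj_sup, cj_zpowers, cj_zpowers, ← conj_mul]; exact sup_le (zpowers_le.2 m1) (zpowers_le.2 (mul_mem m1 m2)))
  generalize zpowers w ⊔ zpowers (w * v) = M at *
  have vM : v ∈ M := ev ▸ (hM.rf_a.mul hM (mem_zpowers _)).1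
  generalize w * v = r at *
  have hN := hM.dn o
  obtain ⟨E, B, s', k', m', n', -⟩ := h.wex hw
  have ez := (h.pr E k'.eD).1.cz k' h.uq m' n' hN l hM.rf_a
  rw [ez] at hN
  have rW : ∀ y, Rf M r y → Wc P c y := fun y hy => by
    obtain ⟨g, hg, rfl | rfl⟩ := hM.conj hy
    exacts [h.wcj hw (normG _ (l hg)), ev ▸ h.wcj hv (normG _ (l hg))]
  have K1 : ∀ x, Wc P c x → x ∈ N[M] → x ∈ M := fun x hx nx => by_contra fun xM => by
    have nc : ∀ y, Rf M r y → x * y * (x * y) ≠ 1 := fun y hy e => by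
      rw [mul_eq_one_iff_eq_inv, mul_inv_rev, inv_eq_of_mul_eq_one_right (h.wsq hx),
        inv_eq_of_mul_eq_one_right (hM.sq hy)] at e
      exact xM ((h.w4 (rW y hy) hx e).elim (· ▸ hy.1) (· ▸ mul_mem hN.zm hy.1))
    have xi := inv_eq_of_mul_eq_one_right (h.wsq hx)
    have xx : ∀ y, x * (x * y) = y := fun y => by rw [← mul_assoc, h.wsq hx, one_mul]
    have nr : x ∈ N[zpowers r] := mem_norm_of_cj_le (by
      rw [cj_zpowers, zpowers_le]
      refine hN.rot (conj_mem_of_norm nx (hM.le (mem_zpowers r))) fun e => ?_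
      rw [conj_mul, conj_eq_one_iff] at e
      exact absurd (hN.ev 1 (by simpa using e)) (by decide))
    obtain ⟨q, hq, eq⟩ := hN.q
    have xc := h.fix (normG _ (h.wP hx))
    have eq' : x * q * x⁻¹ = q⁻¹ := by
      have m := conj_mem_of_norm nr hq
      rcases hN.uniq _ (mul_mem m (inv_mem hq)) (by
        rw [← (rot_comm m (inv_mem hq)).mul_mul_mul_comm, conj_mul, ← mul_inv_rev, eq, xc, mul_inv_cancel]) with e | e
      · exact absurd eq (h.w3 hx (l (hM.le hq)) (Commute.symm (mul_inv_eq_iff_eq_mul.1 (mul_inv_eq_one.1 e))))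
      · rw [mul_inv_eq_iff_eq_mul.1 e, eq_inv_iff_mul_eq_one, mul_assoc, eq, h.cc]
    obtain ⟨j, ej⟩ := hM.mul_rf (x := x * w * x⁻¹) ⟨conj_mem_of_norm nx hM.rf_a.1,
      mt (conj_mem_iff_of_norm nr).1 hM.nm⟩ hM.rf_a
    simp only [xi, mul_assoc] at ej
    have nxw : ¬ Commute x w := fun q => nc w hM.rf_a (by rw [← q.mul_mul_mul_comm, h.wsq hx, h.wsq hw, one_mul])
    obtain ⟨m2, o2, -⟩ := dn_of (h.wP hx) (h.wP hw) (h.wsq hx) (h.wsq hw) nxw
    have le := mx (x, w) ⟨hx, hw, nxw⟩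
    rw [o, o2] at le
    have e1 : (x * w) ^ 2 ^ (m + 2) = 1 := orderOf_dvd_iff_pow_eq_one.1 (o2 ▸ pow_dvd_pow 2
      ((Nat.pow_le_pow_iff_right Nat.one_lt_two).1 le))
    rw [pow_succ', pow_mul, sq, mul_assoc, ← ej, ← zpow_natCast, ← zpow_mul, mul_comm, zpow_mul, zpow_natCast, ez,
      ← orderOf_dvd_iff_zpow_eq_one, hN.z2] at e1
    obtain ⟨j, rfl⟩ := e1
    rw [Nat.cast_two, two_mul, zpow_add] at ej
    have hy : r ^ j ∈ zpowers r := ⟨j, rfl⟩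
    generalize r ^ j = y at *
    have m := conj_mem_of_norm nr hy
    have wi := inv_eq_of_mul_eq_one_right (h.wsq hw)
    have ww : ∀ y, w * (w * y) = y := fun y => by rw [← mul_assoc, h.wsq hw, one_mul]
    have e2 : x * (w * y⁻¹) * (x * (w * y⁻¹)) = y * (x * y * x⁻¹) := by
      have := hM.invs hM.rf_a (inv_mem m)
      rw [inv_inv] at this
      calc _ = x * (w * (x * w)) * (w * (x * y * x⁻¹)⁻¹ * w⁻¹) * y⁻¹ := by
            simp only [xi, wi, mul_assoc, ww, xx, mul_inv_rev, inv_inv]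
        _ = _ := by rw [this, ← ej, mul_assoc y, (rot_comm hy m).eq, mul_assoc y, mul_inv_cancel_right, (rot_comm hy m).eq]
    rcases hN.uniq _ (mul_mem hy m) (by
      rw [← (rot_comm hy m).mul_mul_mul_comm, conj_mul, ej]
      simp only [xi, mul_assoc, xx, ww, h.wsq hx]) with e | e
    · exact nc _ (hM.rf_a.mul hM (inv_mem hy)) (e2.trans e)
    have rf := hM.rf_a.mul hM (inv_mem hy)
    have c1 : Commute (x * (w * y⁻¹)) q := by
      show _ = _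
      rw [← mul_inv_eq_iff_eq_mul, mul_inv_rev, mul_assoc x, mul_assoc x, ← mul_assoc (_ * q), hM.invs rf hq,
        ← mul_assoc, ← conj_inv, eq', inv_inv]
    exact nc _ (rf.mul hM hq) (by rw [← mul_assoc x, ← c1.mul_mul_mul_comm, e2, e, eq, h.cc])
  have K2 : (P : Subgroup G) ≤ N[M] := (nilpotent_sub_norm (pgroup_nil P.2) inf_le_left fun p hp =>
    ⟨hp.1, nM p (K1 _ (h.wcj hw (normG _ hp.1)) (conj_mem_of_norm hp.2 (mem_inf.2 ⟨h.wP hw, normG _ hM.rf_a.1⟩)).2)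
      (K1 _ (h.wcj hv (normG _ hp.1)) (conj_mem_of_norm hp.2 (mem_inf.2 ⟨h.wP hv, normG _ vM⟩)).2)⟩).ge.trans inf_le_right
  have K3 := fun x hx => K1 x hx (K2 (h.wP hx))
  exact ⟨M, w, r, hN, hN.two, l, fun n hn => nM n (K3 _ (h.wcj hw hn)) (K3 _ (h.wcj hv hn)), K3⟩

theorem dihedral (nab : ¬ (P : Subgroup G) ≤ C[(P : Subgroup G)]) (hG : ⁅(⊤ : Subgroup G), (⊤ : Subgroup G)⁆ = ⊤)
    (hS : ∀ S : Subgroup G, S ≤ C[S] → IsStronglyClosed S P → S = ⊥) : ∃ w r, DG (P : Subgroup G) w r ∧ 2 ≤ orderOf r := by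
  obtain ⟨M, w, r, hM, o, l, nM, hW⟩ := h.exM
  have hY : (⨅ E : {E // Ess P E}, Yn P E) = ⊥ := by
    obtain ⟨E, hE⟩ := h.ex
    have l1 : (⨅ E : {E // Ess P E}, Yn P E) ≤ E := (iInf_le _ ⟨E, hE⟩).trans Yn_le
    refine hS _ (centSS l1 l1 hE.ab) ⟨l1.trans hE.le, fun x hx g m => fus' h.uq nab (fun a b => a ∈ (⨅ E : {E // Ess P E},
      Yn P E) → b ∈ (⨅ E : {E // Ess P E}, Yn P E)) (fun _ _ _ f g m => g (f m)) (fun n hn a _ m => mem_iInf.2 fun E => ?_)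
      (fun E hE g hg x hx a _ m => ?_) (hE.le (l1 hx)) m hx⟩
    · simpa [← cj_mul, cj_one] using Yn_cj hn (mem_iInf.1 m ⟨_, E.2.cj (inv_mem hn)⟩)
    · rwa [mem_cent.1 ((mem_Yn.1 (mem_iInf.1 m ⟨E, hE⟩)).2 g hg) x hx, mul_inv_cancel_right]
  have odd : ∀ k ∈ N[(P : Subgroup G)], PiElt {2}ᶜ k → k ∈ C[(P : Subgroup G)] := fun k hk o => by
    have co : ∀ X ≤ (P : Subgroup G), (#X).Coprime #(zpowers k) := fun X l =>
      pnat_coprime (pgroup_iff.1 (P.2.to_le l)) (p_elt_zpowers.2 o)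
    have lk := zpowers_le.2 hk
    have nr : zpowers k ≤ N[zpowers r] := fun x hx => mem_norm_of_cj_le (by
      rw [cj_zpowers, zpowers_le]
      refine hM.rot (conj_mem_of_norm (nM (lk hx)) (hM.le (mem_zpowers r))) fun e => ?_
      rw [conj_mul, conj_eq_one_iff] at e
      exact absurd (hM.ev 1 (by simpa using e)) (by decide))
    have c1 : zpowers k ≤ C[M] := stable_factor_cent (coprime_abelian_faithful_Ohm1 (P.2.to_le (hM.le.trans l)) nr
      (co _ (hM.le.trans l)) inferInstance (cents_symm (Ohm1_le_iff.2 fun x hx e => mem_cent.2 fun a ha => by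
        rcases hM.uniq x hx (by rwa [← sq]) with rfl | rfl
        exacts [by simp, mul_inv_eq_iff_eq_mul.1 (h.fix (lk ha))]))) (commutator_le.2 fun m hm a ha => by
      have m1 := conj_mem_of_norm (nM (lk ha)) (inv_mem hm)
      rw [commutatorElement_def, mul_assoc, mul_assoc, ← mul_assoc a]
      by_cases q : m ∈ zpowers r
      exacts [mul_mem q (conj_mem_of_norm (nr ha) (inv_mem q)),
        hM.mul_rf ⟨hm, q⟩ ⟨m1, fun e => q (inv_mem_iff.1 ((conj_mem_iff_of_norm (nr ha)).1 e))⟩]) (co _ (hM.le.trans l))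
    refine zpowers_le.1 (coprime_commGG1P lk (co _ le_rfl) (le_bot_iff.1 (hY ▸ le_iInf fun ⟨E, hE⟩ => ?_)))
    obtain ⟨B, s, j, r2, u, hu, n, Wu, -⟩ := h.wE hE
    have uM := hW u Wu
    have l1 : ⁅(P : Subgroup G), zpowers k⁆ ≤ E := commutator_le.2 fun p hp a ha =>
      j.cen h.uq hu n (commg_subl lk (commutator_mem_commutator hp ha)) (Commute.mul_left (comm_of_cj (g := p⁻¹) (by
        simpa [mul_assoc] using (Commute.symm (mem_cent.1 (c1 ha) _ (conj_mem_of_norm (nM (normG _ (inv_mem hp))) uM)))))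
        (Commute.symm (mem_cent.1 (c1 (inv_mem ha)) _ uM)))
    refine (commSg _ l1).trans (commutator_le.2 fun d hd a ha => ?_)
    have na : a ∈ N[E] := mem_norm_of_cj_le fun x hx => by
      obtain ⟨y, hy, rfl⟩ := mem_cj'.1 hx
      exact j.cen h.uq hu n (conj_mem_of_norm (lk ha) (hE.le hy))
        (conj_eq_of_cent (c1 ha) uM ▸ comm_cj (cmm hE.ab hy hu) a)
    have k1 : ∀ z ∈ E, z ∈ B → ∃ v ∈ M, ∃ y ∈ Yn P E, z = v * y := fun z h1 h2 => by
      obtain ⟨b, hb, y, hy, rfl⟩ := j.gen h.uq hu n h1 h2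
      exact ⟨_, ((h.pr E hE).1.cm b (j.lT hb) u hu).elim (· ▸ one_mem _) (· ▸ hM.zm), y, hy, rfl⟩
    obtain ⟨v, hv, y, hy, rfl⟩ : ∃ v ∈ M, ∃ y ∈ Yn P E, d = v * y := by
      by_cases q : d ∈ B
      · exact k1 d hd q
      obtain ⟨v, hv, y, hy, e⟩ := k1 _ (mul_mem hu hd) (r2 u hu d hd n q)
      exact ⟨_, mul_mem (inv_mem uM) hv, y, hy, by rw [mul_assoc, ← e, inv_mul_cancel_left]⟩
    have := conj_mem_of_norm (norm_Yn (normG _ ((mul_mem_cancel_right (Yn_le hy)).1 hd)))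
      (mul_mem hy (conj_mem_of_norm (norm_Yn na) (inv_mem hy)))
    rwa [mul_assoc, mul_assoc, mul_assoc _ a⁻¹, mem_cent.1 (c1 (inv_mem ha)) _ (inv_mem hv) |>.symm, ← mul_assoc _ v⁻¹,
      mul_assoc a, ← mul_inv_rev, ← mul_assoc, ← mul_assoc, ← mul_assoc] at this
  have := foc (F := M ⊔ ⁅(P : Subgroup G), (P : Subgroup G)⁆) h.uq nab hG (fun n hn a ha => by
    rw [← consttC {2} n, mul_inv_rev, mul_assoc _ _ a, mul_assoc _ (_ * a), ← mul_assoc (_ * a),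
      conj_eq_of_cent (odd _ (constt_mem _ hn) (p_elt_constt _ n)) ha, ← mul_assoc]
    exact mem_sup_right (commutator_mem_commutator (constt_mem_of_pi (pHall_subl (normG _) le_top (sylowIn_top P))
      (normalG _) hn) ha)) fun E hE g hg x hx a ha => by
    obtain ⟨t, ht, rfl⟩ := mem_cj'.1 hx
    obtain ⟨d, hd, rfl⟩ := mem_cj'.1 ((cj_of_norm hg).ge ha)
    rw [← commutatorElement_def, ← conjugate_commutatorElement]
    refine mem_sup_left (((h.pr E hE).1.cm t ht d hd).elim (fun e => by simp [e]) fun e => ?_)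
    rw [e]
    exact (eq_or_ne _ c).elim (fun e => by rw [e]; exact hM.zm) fun q => hW _ ⟨E, hE, q, g, hg, rfl⟩
  exact ⟨w, r, Phi_nongen l (this.trans (sup_le_sup_left (der1_sub_Phi (pgroup_nil P.2)) _)) ▸ hM.toDG, o⟩
end AC

end Cfsg.Agent.ASI
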