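import Cfsg.Agent.DD.VN
import Cfsg.Agent.Transfer.Alperin

/-! Groups with abelian Sylow 2-intersections: essential subgroups (`Ess`), Alperin's theorem (`fus`) and quadratic
offenders on essential subgroups (`Ess.lp`). -/
set_option autoImplicit false
set_option linter.unusedSectionVars false
open Subgroup Cfsg Cfsg.Agent.BG Cfsg.Agent.Invol
open scoped commutatorElement
local notation "Ω" => omegaOne

namespace Cfsg.Agent.ASI
variable {G : Type*} [Group G] [Finite G] {A B D E X : Subgroup G} {a b c d g h n t u v w x y z : G} {P : Sylow 2 G}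

/-- Non-abelian subgroups of `P` lie in no other Sylow subgroup. -/
def UQ (P : Sylow 2 G) : Prop := ∀ X ≤ (P : Subgroup G), ¬ X ≤ C[X] → ∀ g, cj g X ≤ P → g ∈ N[(P : Subgroup G)]

abbrev Tn (P : Sylow 2 G) (D : Subgroup G) : Subgroup G := P ⊓ N[D]
abbrev Rn (P : Sylow 2 G) (D : Subgroup G) : Subgroup G := Tn P D ⊔ C[D]
def Yn (P : Sylow 2 G) (D : Subgroup G) : Subgroup G := D ⊓ ⨅ g ∈ N[D], C[cj g (Tn P D)]

theorem mem_Yn : y ∈ Yn P D ↔ y ∈ D ∧ ∀ g ∈ N[D], y ∈ C[cj g (Tn P D)] := by simp [Yn, mem_iInf]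

theorem norm_Yn : N[D] ≤ N[Yn P D] := le_norm_iff.2 fun n hn y hy => mem_Yn.2 ⟨conj_mem_of_norm hn (mem_Yn.1 hy).1,
  fun g hg => by
    have := conj_mem_cj n ((mem_Yn.1 hy).2 _ (mul_mem (inv_mem hn) hg))
    rwa [← C_cj, ← cj_mul, mul_inv_cancel_left] at this⟩

theorem cj_Tn (hn : n ∈ N[(P : Subgroup G)]) : cj n (Tn P D) = Tn P (cj n D) := by rw [cj_inf, cj_of_norm hn, ← N_cj]
theorem cj_Rn (hn : n ∈ N[(P : Subgroup G)]) : cj n (Rn P D) = Rn P (cj n D) := by rw [cj_sup, cj_Tn hn, ← C_cj]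

structure Ess (P : Sylow 2 G) (D : Subgroup G) : Prop where
  le : D ≤ P
  ab : D ≤ C[D]
  sc : (P : Subgroup G) ⊓ C[D] ≤ D
  syl : SylowIn 2 (Tn P D) N[D]
  nn : ¬ N[D] ≤ N[Rn P D]

theorem Rn_le : Rn P D ≤ N[D] := sup_le inf_le_right (cent_sub D)

theorem fus (hU : UQ P) (nab : ¬ (P : Subgroup G) ≤ C[(P : Subgroup G)]) (r : G → G → Prop)
    (tr : ∀ a b c, r a b → r b c → r a c) (h1 : ∀ n ∈ N[(P : Subgroup G)], ∀ a ∈ (P : Subgroup G), r a (n * a * n⁻¹))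
    (h2 : ∀ D, Ess P D → ∀ x ∈ N[D], ∀ a ∈ D, r a (x * a * x⁻¹)) (ha : a ∈ (P : Subgroup G))
    (hg : g * a * g⁻¹ ∈ (P : Subgroup G)) : r a (g * a * g⁻¹) := by
  have key : ∀ m, ∀ D : Subgroup G, ∀ g, D ≤ P → cj g D ≤ P → #(P : Subgroup G) ≤ #D + m → ∀ a ∈ D, r a (g * a * g⁻¹) := by
    intro m
    induction m with
    | zero => exact fun D g l1 l2 c a ha => h1 g (hU D l1 (by rwa [eq_of_card_le l1 c]) g l2) a (l1 ha)
    | succ m ih =>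
      refine Transfer.alperin_induction P (fun D g => #(P : Subgroup G) ≤ #D + (m + 1) → ∀ a ∈ D, r a (g * a * g⁻¹))
        (fun D E g l _ _ k c a ha => k (c.trans (Nat.add_le_add_right (card_le_card l) _)) a (l ha))
        (fun D g h _ _ _ k1 k2 c a ha => tr _ _ _ (k1 c a ha) ?_) fun D x hD hx _ c a ha => ?_
      · simpa [mul_assoc] using k2 (by rwa [cj_eq_smul, card_cj]) _ (conj_mem_cj g ha)
      have l := hD.1
      have hS : SylowIn 2 (Tn P D) N[D] := sylow_mk hD.2.1 hD.2.2.1 hD.2.2.2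
      by_cases ab : D ≤ C[D]
      swap
      · exact h1 x (hU D l ab x ((cj_of_norm hx).le.trans l)) a (l ha)
      have K : ∀ E : Subgroup G, D < E → E ≤ P → x ∈ C[D] ⊔ (N[D] ⊓ N[E]) → r a (x * a * x⁻¹) := fun E lt l2 m => by
        obtain ⟨k, hk, y, hy, rfl⟩ := (mem_sup_norml (inf_le_left.trans (cent_norm D))).1 m
        have := ih E y l2 ((cj_of_norm hy.2).le.trans l2) (by have := proper_card lt; omega) a (lt.le ha)
        rw [← conj_eq_of_cent hk (conj_mem_of_norm hy.1 ha)] at this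
        simpa [mul_assoc] using this
      by_cases sc : (P : Subgroup G) ⊓ C[D] ≤ D
      swap
      · refine K (C[D] ⊓ Tn P D) (lt_of_le_not_ge (le_inf ab (le_inf l (normG D))) fun e => sc fun y hy =>
          e ⟨hy.2, hy.1, cent_sub D hy.2⟩) (inf_le_right.trans inf_le_left) ?_
        exact (Frattini_arg (cent_normal D) (Sylow_setI_normal (cent_normal D) hS)).ge hx
      by_cases nn : N[D] ≤ N[Rn P D]
      swap
      · exact h2 D ⟨l, ab, sc, hS, nn⟩ x hx a ha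
      refine K (Tn P D) (nilpotent_proper_norm (pgroup_nil P.2) (lt_of_le_of_ne l fun e => nab (e ▸ ab))) inf_le_left ?_
      have := (Frattini_arg ⟨Rn_le, nn⟩ (pHall_subl le_sup_left Rn_le hS)).ge hx
      exact sup_le (sup_le (le_sup_of_le_right (le_inf inf_le_right (normG _))) le_sup_left) le_sup_right this
  refine key #(P : Subgroup G) (zpowers a) g (zpowers_le.2 ha) (by rwa [cj_zpowers, zpowers_le]) (by omega) a (mem_zpowers a)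

theorem Ess.nab (h : Ess P D) : ¬ Tn P D ≤ C[D] := fun l => h.nn (by rw [Rn, sup_eq_right.2 l]; exact cent_norm D)

theorem fus' (hU : UQ P) (nab : ¬ (P : Subgroup G) ≤ C[(P : Subgroup G)]) (r : G → G → Prop)
    (tr : ∀ a b c, r a b → r b c → r a c) (h1 : ∀ n ∈ N[(P : Subgroup G)], ∀ a ∈ (P : Subgroup G), r a (n * a * n⁻¹))
    (h2 : ∀ D, Ess P D → ∀ g ∈ N[D], ∀ x ∈ cj g (Tn P D), ∀ a ∈ D, r a (x * a * x⁻¹)) (ha : a ∈ (P : Subgroup G))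
    (hg : g * a * g⁻¹ ∈ (P : Subgroup G)) : r a (g * a * g⁻¹) := by
  refine fus hU nab r tr h1 (fun D hD x hx a ha => ?_) ha hg
  have n := Gold.ncl_normal (inf_le_right : Tn P D ≤ N[D])
  obtain ⟨k, hk, y, hy, rfl⟩ := (mem_sup_norml (inf_le_left.trans n.2)).1
    ((Frattini_arg n (pHall_subl (Gold.le_ncl _ _) n.1 hD.syl)).ge hx)
  have K : k ∈ N[D] ∧ ∀ a ∈ D, r a (k * a * k⁻¹) := by
    refine iSup_induction _ (C := fun k => k ∈ N[D] ∧ ∀ a ∈ D, r a (k * a * k⁻¹)) hk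
      (fun g x hx => ⟨cj_le_of_mem g.2 inf_le_right hx, h2 D hD g g.2 x hx⟩)
      ⟨one_mem _, fun a ha => h1 1 (one_mem _) a (hD.le ha)⟩ fun x y hx hy => ⟨mul_mem hx.1 hy.1, fun a ha => ?_⟩
    simpa [mul_assoc] using tr _ _ _ (hy.2 a ha) (hx.2 _ (conj_mem_of_norm hy.1 ha))
  simpa [mul_assoc] using tr _ _ _ (h1 y (hU _ inf_le_left (fun e => hD.nab (e.trans (centS (le_inf hD.le (normG D))))) y
    ((cj_of_norm hy.2).le.trans inf_le_left)) a (hD.le ha)) (K.2 _ (conj_mem_of_norm hy.1 ha))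

theorem cm_mul (hD : D ≤ C[D]) (ha : a ∈ N[D]) (hx : x ∈ D) (hy : y ∈ D) : ⁅a, x * y⁆ = ⁅a, x⁆ * ⁅a, y⁆ := by
  have := mem_cent.1 (hD (mul_mem (conj_mem_of_norm ha hy) (inv_mem hy))) _ (inv_mem hx)
  simp only [commutatorElement_def]
  calc _ = a * x * a⁻¹ * (a * y * a⁻¹ * y⁻¹ * x⁻¹) := by group
    _ = _ := by rw [← this]; group

theorem cm_mul' (hc : ⁅b, x⁆ ∈ C1[a]) : ⁅a * b, x⁆ = ⁅b, x⁆ * ⁅a, x⁆ := by
  have := mem_cent1.1 hc
  simp only [commutatorElement_def] at this ⊢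
  calc _ = a * (b * x * b⁻¹ * x⁻¹) * (x * a⁻¹ * x⁻¹) := by group
    _ = _ := by rw [← this]; group

theorem cm_mem (ha : a ∈ N[D]) (hx : x ∈ D) : ⁅a, x⁆ ∈ D := mul_mem (conj_mem_of_norm ha hx) (inv_mem hx)

theorem pow_cent (hc : ⁅x, d⁆ ∈ C1[x]) (m : ℕ) : ⁅x ^ m, d⁆ = ⁅x, d⁆ ^ m := by
  induction m with
  | zero => simp
  | succ m ih => rw [pow_succ', cm_mul' (ih ▸ pow_mem hc m), ih, pow_succ]

namespace Ess
theorem pg (h : Ess P D) : IsPGroup 2 D := P.2.to_le h.le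
theorem leT (h : Ess P D) : D ≤ Tn P D := le_inf h.le (normG D)
theorem cj (h : Ess P D) (hn : n ∈ N[(P : Subgroup G)]) : Ess P (cj n D) :=
  ⟨cj_le_of_norm hn h.le, C_cj n D ▸ cj_mono n h.ab, by rw [C_cj, ← cj_of_norm hn, ← cj_inf]; exact cj_mono n h.sc,
    by rw [← cj_Tn hn, N_cj]; exact pHallJ n h.syl, by rw [← cj_Rn hn, N_cj, N_cj, cj_le_cj]; exact h.nn⟩
theorem eq_of_le (h : Ess P D) (hE : E ≤ C[E]) (l1 : E ≤ P) (l : D ≤ E) : E = D :=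
  le_antisymm ((le_inf l1 (hE.trans (centS l))).trans h.sc) l

theorem into (h : Ess P D) (l : X ≤ N[D]) (hX : ∀ x ∈ X, ∃ k, x ^ 2 ^ k ∈ C[D]) : ∃ g ∈ N[D], X ≤ BG.cj g (Rn P D) := by
  obtain ⟨g, hg, e⟩ := Sylow_subJ (quotient_pHall (cent_norm D) h.syl) (quotientS C[D] l) (fun ⟨y, hy⟩ => by
    obtain ⟨x, hx, m, rfl⟩ := mem_quotient_iff.1 hy
    exact (hX x hx).imp fun k e => Subtype.ext (by simp only [SubgroupClass.coe_pow, OneMemClass.coe_one]; rw [← coset_pow m, coset_id e]))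
  obtain ⟨g, hg', m, rfl⟩ := mem_quotient_iff.1 hg
  rw [← quotientJ m, quotientSK (l.trans (cent_norm D)) ((cj_le_of_mem hg' inf_le_right).trans (cent_norm D))] at e
  exact ⟨g, hg', by rwa [cj_sup, cj_of_norm m, sup_comm]⟩

theorem ti (h : Ess P D) (hU : UQ P) (hg : g ∈ N[D]) (hu : u ∈ Tn P D) (uD : u ∉ D) (m : u ∈ BG.cj g (Rn P D)) :
    BG.cj g (Rn P D) = Rn P D := by
  have l : zpowers u ⊔ D ≤ Tn P D := sup_le (zpowers_le.2 hu) h.leT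
  obtain ⟨k, hk, e⟩ := Sylow_subJ (pHallJ g (pHall_subl le_sup_left Rn_le h.syl)) (sup_le (zpowers_le.2 m)
    ((cj_of_norm hg).ge.trans (cj_mono g (h.leT.trans le_sup_left)))) (P.2.to_le (l.trans inf_le_left))
  rw [← cj_mul, le_cj_iff] at e
  have n1 := inv_mem (hU _ (l.trans inf_le_left) (fun e => uD (h.sc ⟨hu.1, centS le_sup_right
    (e (mem_sup_left (mem_zpowers u)))⟩)) _ (e.trans inf_le_left))
  rw [inv_inv] at n1
  rw [← cj_of_mem hk, ← cj_mul, cj_Rn n1, cj_of_norm (mul_mem (cj_le_of_mem hg Rn_le hk) hg)]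

theorem of_norm (h : Ess P D) (hU : UQ P) (hg : g ∈ N[D]) (ne : BG.cj g (Rn P D) ≠ Rn P D) (hu : u ∈ Tn P D)
    (m : u ∈ N[BG.cj g (Rn P D)]) : u ∈ D := by
  obtain ⟨k, hk, e⟩ := Sylow_subJ (pHall_subl (M := N[D]) (K := N[D] ⊓ N[BG.cj g (Rn P D)]) (le_inf
    (cj_le_of_mem hg inf_le_right) ((cj_mono g le_sup_left).trans (normG _))) inf_le_left (pHallJsub hg h.syl))
    (zpowers_le.2 (mem_inf.2 ⟨hu.2, m⟩)) (P.2.to_le (zpowers_le.2 hu.1))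
  exact by_contra fun n => ne (h.ti hU hg hu n
    (cj_le_of_norm hk.2 (cj_mono g le_sup_left) (e (mem_zpowers u))))

theorem faith (h : Ess P D) (hU : UQ P) (hu : u ∈ Tn P D) (c : ∀ d ∈ D, d * d = 1 → Commute d u) : u ∈ D := by
  have n : N[D] ≤ N[N[D] ⊓ C[Ω 2 D]] := normsI (normG _) (norms_cent (norms_Ohm 2 le_rfl))
  obtain ⟨g, hg, l⟩ := h.into (X := N[D] ⊓ C[Ω 2 D]) inf_le_left fun x hx => by
    obtain ⟨k, m, hm, e⟩ := Nat.exists_eq_two_pow_mul_odd (orderOf_pos x).ne'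
    refine ⟨k, zpowers_le.1 (coprime_abelian_faithful_Ohm1 h.pg (zpowers_le.2 (pow_mem hx.1 _)) ?_ (abelian_of_cent h.ab)
      (zpowers_le.2 (pow_mem hx.2 _)))⟩
    obtain ⟨j, e1⟩ := IsPGroup.iff_card.1 h.pg
    rw [e1, Nat.card_zpowers, orderOf_pow_of_dvd (by positivity) ⟨m, e⟩, e, Nat.mul_div_cancel_left _ (by positivity)]
    exact (Nat.coprime_two_left.2 hm).pow_left j
  have m : u ∈ N[D] ⊓ C[Ω 2 D] := ⟨hu.2, le_cent1_iff.1 (Ohm1_le_iff.2 fun d hd e => mem_cent1.2 (c d hd (by rwa [← sq])))⟩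
  refine by_contra fun uD => h.nn fun x hx => mem_norm.2 (h.ti hU hx hu uD ?_)
  have := cj_mono (x * g⁻¹) l
  rw [cj_of_norm (n (mul_mem hx (inv_mem hg))), ← cj_mul, inv_mul_cancel_right] at this
  exact this m
end Ess

/-- The structure of a quadratic offender `A` on an essential subgroup `D`. -/
structure LP (P : Sylow 2 G) (D A : Subgroup G) (h : G) : Prop where
  hH : h ∈ N[D]
  ne : cj h (Rn P D) ≠ Rn P D
  le : Tn P D ≤ A ⊔ D
  c3 : ∀ a ∈ A, a ∉ D → ∀ d ∈ D, ⁅a, d⁆ ∈ Yn P D → d ∈ C[A]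
  sup : D ≤ (D ⊓ C[A]) ⊔ cj h (D ⊓ C[A])
  gen : ∀ d ∈ D, d ∉ C[A] → ∀ z ∈ D ⊓ C[A], ∃ a ∈ A, z⁻¹ * ⁅a, d⁆ ∈ Yn P D
  all : ∀ g ∈ N[D], cj g (Rn P D) = Rn P D ∨ ∃ a ∈ A, cj g (Rn P D) = cj (a * h) (Rn P D)
  eY : ∀ y ∈ D ⊓ C[A], y ∈ cj h (D ⊓ C[A]) → y ∈ Yn P D

theorem Ess.lp (hD : Ess P D) (hU : UQ P) (lA : A ≤ Tn P D) (hq : ⁅D, A⁆ ≤ C[A]) (nA : ¬ A ≤ D)
    (hi : #D * #(A ⊓ D : Subgroup G) ≤ #A * #(D ⊓ C[A] : Subgroup G)) : ∃ h, LP P D A h := by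
  set R := Rn P D with hR
  set Z := D ⊓ C[A] with hZ
  have lH : A ≤ N[D] := lA.trans inf_le_right
  have lR : A ≤ R := lA.trans le_sup_left
  have lZ : ∀ g ∈ N[D], BG.cj g Z ≤ D := fun g hg => cj_le_of_norm hg inf_le_left
  have cZ : ∀ a ∈ A, ∀ d ∈ D, ⁅a, d⁆ ∈ Z := fun a ha d hd =>
    ⟨cm_mem (lH ha) hd, hq (commGC D A ▸ commutator_mem_commutator ha hd)⟩
  obtain ⟨a0, ha0, n0⟩ := SetLike.not_le_iff_exists.1 nA
  have nZ : ∀ g ∈ N[D], ∀ g' ∈ N[D], BG.cj g' Z ≤ N[BG.cj g Z] := fun g hg g' hg' =>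
    cents_norm (centSS (lZ g hg) (lZ g' hg') hD.ab)
  have nZ1 : ∀ g ∈ N[D], BG.cj g Z ≤ N[Z] := fun g hg => by simpa [cj_one] using nZ 1 (one_mem _) g hg
  have fb : ∀ h ∈ N[D], BG.cj h R ≠ R → ¬ BG.cj h Z ≤ Z := fun h hh ne l => by
    have e := eq_of_card_le l (card_cj h Z).ge
    have l1 : A ⊔ BG.cj h A ≤ N[D] := sup_le lH (cj_le_of_mem hh lH)
    have c1 : Z ≤ C[A ⊔ BG.cj h A] := le_cent_sup inf_le_right (e.ge.trans (C_cj h A ▸ cj_mono h inf_le_right))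
    have n1 := cents_norm (cents_symm c1)
    have c0 : ⁅A, D⁆ ≤ Z := commutator_le.2 cZ
    have c2 : ⁅A ⊔ BG.cj h A, D⁆ ≤ Z := comm_sup_le (le_sup_left.trans n1) (le_sup_right.trans n1) c0
      (by have := cj_mono h c0; rwa [cj_comm, cj_of_norm hh, e] at this)
    obtain ⟨k, e1⟩ := IsPGroup.iff_card.1 hD.pg
    obtain ⟨g, hg, l2⟩ := hD.into l1 fun x hx => ⟨k, mem_cent.2 fun d hd => by
      have m := c2 (commutator_mem_commutator hx hd)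
      rw [eq_comm, ← commutatorElement_eq_one_iff_mul_comm, pow_cent (cent_le_cent1 hx (c1 m)), ← e1]
      exact orderOf_dvd_iff_pow_eq_one.1 (orderOf_dvd_cardG m.1)⟩
    rw [hD.ti hU hg (lA ha0) n0 (l2 (mem_sup_left ha0))] at l2
    exact ne (cj_eq_iff.2 (hD.ti hU (inv_mem hh) (lA ha0) n0 (mem_cj_inv.2 (l2 (mem_sup_right (conj_mem_cj h ha0))))).symm)
  let M := fun h => ∀ g ∈ N[D], BG.cj g R ≠ R → #(Z ⊓ BG.cj g Z : Subgroup G) ≤ #(Z ⊓ BG.cj h Z : Subgroup G)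
  have main : ∀ h ∈ N[D], BG.cj h R ≠ R → M h → #D * #(Z ⊓ BG.cj h Z : Subgroup G) = #Z * #Z ∧ D ≤ Z ⊔ BG.cj h Z ∧
      (∀ a ∈ A, a ∉ D → ∀ d ∈ D, ⁅a, d⁆ ∈ BG.cj h Z → d ∈ Z) ∧
      ∀ d ∈ D, d ∉ Z → ∀ z ∈ Z, ∃ a ∈ A, z⁻¹ * ⁅a, d⁆ ∈ Z ⊓ BG.cj h Z := fun h hh ne hm => by
    have k1 : ∀ a ∈ A, a ∉ D → ∀ z ∈ BG.cj h Z, ⁅a, z⁆ ∈ BG.cj h Z → z ∈ Z := fun a ha aD z hz m => by
      have m1 := mul_mem (inv_mem hh) (mul_mem (lH ha) hh)
      have := hm _ m1 fun e => aD (hD.of_norm hU hh ne (lA ha) (mem_norm.2 (by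
        rwa [cj_mul, cj_eq_iff, inv_inv, cj_mul] at e)))
      rw [← card_cj h, cj_inf, ← cj_mul, mul_inv_cancel_left, cj_mul] at this
      have e : Z ⊓ BG.cj h Z = BG.cj h Z ⊓ BG.cj a (BG.cj h Z) := eq_of_card_le (le_inf inf_le_right fun y hy => by
        rw [← conj_eq_of_cent (cents_symm (inf_le_right : Z ≤ _) ha) hy.1]; exact conj_mem_cj a hy.2) this
      have := (e.ge ⟨(mul_mem_cancel_right (inv_mem hz)).1 m, conj_mem_cj a hz⟩).1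
      exact (conj_mem_iff_of_norm (cents_norm (cents_symm inf_le_right) ha)).1 this
    have k2 : ∀ z ∈ BG.cj h Z, z ∉ Z → #A * #(Z ⊓ BG.cj h Z : Subgroup G) ≤ #(A ⊓ D : Subgroup G) * #Z ∧
        (#(A ⊓ D : Subgroup G) * #Z ≤ #A * #(Z ⊓ BG.cj h Z : Subgroup G) →
          ∀ y ∈ Z, ∃ a ∈ A, y⁻¹ * ⁅a, z⁆ ∈ Z ⊓ BG.cj h Z) := fun z hz zZ => by
      have nY : Z ≤ N[Z ⊓ BG.cj h Z] := cents_norm (centSS (inf_le_left.trans inf_le_left) inf_le_left hD.ab)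
      have c := fun a ha => cZ a ha z (lZ h hh hz)
      let f : A →* Quo (Z ⊓ BG.cj h Z) := MonoidHom.mk' (fun a => coset _ ⁅(a : G), z⁆) fun a b => by
        rw [← coset_mul (nY (c _ a.2)) (nY (c _ b.2)), mem_cent.1 (hD.ab (c _ b.2).1) _ (c _ a.2).1,
          ← cm_mul' (cent_le_cent1 a.2 (c _ b.2).2)]; rfl
      have l : f.range ≤ Z /ᵍ (Z ⊓ BG.cj h Z) := by rintro _ ⟨a, rfl⟩; exact mem_quotient (nY (c _ a.2)) (c _ a.2)
      have lk : f.ker ≤ (A ⊓ D).subgroupOf A := fun a ha => ⟨a.2, by_contra fun n =>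
        zZ (k1 a a.2 n z hz ((coset_eq_one (nY (c _ a.2))).1 ha).2)⟩
      have e1 := card_mul_quotient (⟨inf_le_left, nY⟩ : Z ⊓ BG.cj h Z ⊴ Z)
      have e2 : #f.ker * #f.range = #A := by rw [← index_ker, card_mul_index]
      have e3 := card_le_card lk
      rw [Nat.card_congr (subgroupOfEquivOfLe inf_le_left).toEquiv] at e3
      have e4 := card_le_card l
      refine ⟨by rw [← e1, ← e2, mul_assoc, mul_comm #f.range]; gcongr, fun i y hy => ?_⟩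
      have e5 : #(Z /ᵍ (Z ⊓ BG.cj h Z)) ≤ #f.range := by
        refine Nat.le_of_mul_le_mul_left ?_ (Nat.mul_pos (cardG_pos (A ⊓ D)) (cardG_pos (Z ⊓ BG.cj h Z)))
        calc _ = _ := by rw [mul_assoc, e1]
          _ ≤ _ := i
          _ ≤ _ := by rw [← e2, mul_right_comm]; gcongr
      obtain ⟨a, e⟩ := (eq_of_card_le l e5).ge (mem_quotient (nY hy) hy)
      exact ⟨a, a.2, (coset_eq_iff (nY hy) (nY (c _ a.2))).1 e.symm⟩
    obtain ⟨z, hz, zZ⟩ := SetLike.not_le_iff_exists.1 (fb h hh ne)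
    have e1 := card_sup_mul_inf (.inr (nZ1 h hh))
    rw [card_cj] at e1
    have e2 := card_le_card (sup_le inf_le_left (lZ h hh) : Z ⊔ BG.cj h Z ≤ D)
    have e3 := (k2 z hz zZ).1
    have p1 := cardG_pos (A ⊓ D)
    have p2 := cardG_pos (Z ⊓ BG.cj h Z)
    have p3 := cardG_pos Z
    have e4 : #D * #(Z ⊓ BG.cj h Z : Subgroup G) ≤ #Z * #Z := Nat.le_of_mul_le_mul_left (by nlinarith) p1
    have e5 : #D ≤ #(Z ⊔ BG.cj h Z : Subgroup G) := Nat.le_of_mul_le_mul_right (by omega) p2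
    have e6 := eq_of_card_le (sup_le inf_le_left (lZ h hh)) e5
    have e7 : #(A ⊓ D : Subgroup G) * #Z ≤ #A * #(Z ⊓ BG.cj h Z : Subgroup G) :=
      Nat.le_of_mul_le_mul_left (by rw [e6] at e1; nlinarith) p3
    have dec : ∀ d ∈ D, ∃ y ∈ Z, ∃ z ∈ BG.cj h Z, d = y * z ∧ ∀ a ∈ A, ⁅a, d⁆ = ⁅a, z⁆ := fun d hd => by
      obtain ⟨y, hy, z, hz, rfl⟩ := (mem_sup_norml (nZ1 h hh)).1 (e6.ge hd)
      exact ⟨y, hy, z, hz, rfl, fun a ha => by
        rw [cm_mul hD.ab (lH ha) hy.1 (lZ h hh hz), commutatorElement_eq_one_iff_mul_comm.2 (mem_cent.1 hy.2 a ha), one_mul]⟩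
    refine ⟨by rwa [e6] at e1, e6.ge, fun a ha n d hd m => ?_, fun d hd n => ?_⟩ <;> obtain ⟨y, hy, z, hz, rfl, e⟩ := dec d hd
    · exact mul_mem hy (k1 a ha n z hz (e a ha ▸ m))
    · exact fun x hx => ((k2 z hz fun m => n (mul_mem hy m)).2 e7 x hx).imp fun a ⟨m1, m2⟩ => ⟨m1, by rwa [e a m1]⟩
  obtain ⟨h0, hh0, ne0⟩ := SetLike.not_le_iff_exists.1 hD.nn
  obtain ⟨h, ⟨hh, ne⟩, hm⟩ := Set.exists_max_image {g | g ∈ N[D] ∧ BG.cj g R ≠ R}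
    (fun g => #(Z ⊓ BG.cj g Z : Subgroup G)) (Set.toFinite _) ⟨h0, hh0, mt mem_norm.2 ne0⟩
  obtain ⟨m1, m2, m3, m4⟩ := main h hh ne fun g hg e => hm g ⟨hg, e⟩
  have mx : ∀ g ∈ N[D], BG.cj g R ≠ R → M g := fun g hg e g' hg' e' => (hm g' ⟨hg', e'⟩).trans
    (Nat.le_of_mul_le_mul_left (by
      have := card_sup_mul_inf (.inr (nZ1 g hg))
      rw [card_cj] at this
      rw [m1, ← this]
      exact Nat.mul_le_mul_right _ (card_le_card (sup_le inf_le_left (lZ g hg)))) (cardG_pos D))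
  have all : ∀ g ∈ N[D], BG.cj g R = R ∨ ∃ a ∈ A, BG.cj g R = BG.cj (a * h) R := fun g hg => by
    by_contra! n
    obtain ⟨d, hd, dZ⟩ := SetLike.not_le_iff_exists.1 fun l : D ≤ Z => fb h hh ne ((lZ h hh).trans l)
    have K : ∀ x ∈ N[D], BG.cj g R ≠ BG.cj x R → g * ⁅a0, d⁆ * g⁻¹ ∉ BG.cj x Z := fun x hx e m => by
      have m1 := mul_mem (inv_mem hg) hx
      have e' : BG.cj (g⁻¹ * x) R ≠ R := fun e1 => e (by rw [cj_mul, cj_eq_iff, inv_inv] at e1; exact e1.symm)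
      exact dZ ((main _ m1 e' (mx _ m1 e')).2.2.1 a0 ha0 n0 d hd (by rw [cj_mul]; exact mem_cj_inv.2 m))
    have m := conj_mem_of_norm hg (cZ a0 ha0 d hd).1
    have n1 := K 1 (one_mem _) (by rw [cj_one]; exact n.1)
    rw [cj_one] at n1
    obtain ⟨y, hy, z, hz, e⟩ := (mem_sup_norml (nZ1 h hh)).1 (m2 m)
    obtain ⟨a, ha, m5⟩ := m4 z (lZ h hh hz) (fun m => n1 (e ▸ mul_mem hy m)) y hy
    refine K _ (mul_mem (lH ha) hh) (n.2 a ha) ?_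
    have : y * z = a * ((y⁻¹ * ⁅a, z⁆)⁻¹ * z) * a⁻¹ := by
      rw [← conj_mul, conj_eq_of_cent (cents_symm (inf_le_right : Z ≤ _) ha) (inv_mem m5.1), mul_inv_rev, inv_inv,
        mem_cent.1 (hD.ab hy.1) _ (inv_mem (cZ a ha z (lZ h hh hz)).1), commutatorElement_def]; group
    rw [e, this, cj_mul]
    exact conj_mem_cj a (mul_mem (inv_mem m5.2) hz)
  have lT : Tn P D ≤ A ⊔ D := fun t ht => by
    have tR : BG.cj t⁻¹ R = R := cj_of_mem (inv_mem (mem_sup_left ht))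
    rcases all _ (mul_mem ht.2 hh) with e | ⟨a, ha, e⟩
    · exact absurd (by rwa [cj_mul, cj_eq_iff, tR] at e) ne
    · have := hD.of_norm hU hh ne (mul_mem (inv_mem (lA ha)) ht) (mem_norm.2 (by
        rw [cj_mul, ← cj_mul t, e, ← cj_mul, inv_mul_cancel_left]))
      simpa using mul_mem_sup' ha this
  have zR : Z ≤ C[R] := le_cent_sup ((le_cent_sup inf_le_right (inf_le_left.trans hD.ab)).trans (centS lT))
    (cents_symm (centS inf_le_left))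
  have eY : Yn P D = Z ⊓ BG.cj h Z := by
    have k : ∀ g ∈ N[D], Yn P D ≤ BG.cj g Z := fun g hg y hy => by
      rw [hZ, cj_inf, cj_of_norm hg, ← C_cj]
      exact ⟨(mem_Yn.1 hy).1, centS (cj_mono g lA) ((mem_Yn.1 hy).2 g hg)⟩
    refine le_antisymm (le_inf (by simpa [cj_one] using k 1 (one_mem _)) (k h hh)) fun y hy =>
      mem_Yn.2 ⟨hy.1.1, fun g hg => centS (cj_mono g (le_sup_left : _ ≤ R)) ?_⟩
    rcases all g hg with e | ⟨a, ha, e⟩ <;> rw [e]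
    · exact zR hy.1
    · rw [← conj_eq_of_cent (cents_symm (inf_le_right : Z ≤ _) ha) hy.1, cj_mul, C_cj, C_cj]
      exact conj_mem_cj a (cj_mono h zR hy.2)
  exact ⟨h, hh, ne, lT, fun a ha n d hd m => (m3 a ha n d hd (eY.le m).2).2, m2,
    fun d hd n z hz => eY ▸ m4 d hd (fun m => n m.2) z hz, all, fun y h1 h2 => eY.ge ⟨h1, h2⟩⟩

end Cfsg.Agent.ASI
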