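import Cfsg.Agent.ASI.Ess

/-! Groups with abelian Sylow 2-intersections: pairs of essential subgroups swapped by an element of `P` (`PR`); no
essential subgroup is normal (`PR.nn`), and each pair has index two over its intersection (`PR.r2`). -/
set_option autoImplicit false
set_option linter.unusedSectionVars false
open Subgroup Cfsg Cfsg.Agent.BG Cfsg.Agent.Invol
open scoped commutatorElement
local notation "Ω" => omegaOne

namespace Cfsg.Agent.ASI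
variable {G : Type*} [Group G] [Finite G] {A B D E F X : Subgroup G} {a b c d g n p s s' t u v w x y z : G}
  {P : Sylow 2 G}

theorem exists_sq (ha : a ∈ (P : Subgroup G)) (n : a ∉ D) : ∃ j : ℕ, a ^ j ∉ D ∧ a ^ j * a ^ j ∈ D := by
  obtain ⟨k, e⟩ := P.2 ⟨a, ha⟩
  have m : a ^ 2 ^ k ∈ D := (show a ^ 2 ^ k = 1 from congrArg Subtype.val e) ▸ one_mem _
  clear e
  induction k with
  | zero => exact absurd (by simpa using m) n
  | succ k ih => exact by_cases ih fun q => ⟨_, q, by rwa [← pow_add, ← mul_two]⟩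

theorem foc (hU : UQ P) (nab : ¬ (P : Subgroup G) ≤ C[(P : Subgroup G)]) (hG : ⁅(⊤ : Subgroup G), (⊤ : Subgroup G)⁆ = ⊤)
    (h1 : ∀ n ∈ N[(P : Subgroup G)], ∀ a ∈ (P : Subgroup G), n * a * n⁻¹ * a⁻¹ ∈ F)
    (h2 : ∀ D, Ess P D → ∀ g ∈ N[D], ∀ x ∈ cj g (Tn P D), ∀ a ∈ D, x * a * x⁻¹ * a⁻¹ ∈ F) : (P : Subgroup G) ≤ F := by
  have := focal_subgroup_le (L := F) (sylowIn_top P) fun x hx g _ m =>
    fus' hU nab (fun a b => b * a⁻¹ ∈ F) (fun a b c m1 m2 => by simpa using mul_mem m2 m1) h1 h2 hx m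
  rwa [hG, inf_top_eq] at this

theorem Yn_c (hy : y ∈ Yn P D) : y ∈ C[Tn P D] := by simpa [cj_one] using (mem_Yn.1 hy).2 1 (one_mem _)
theorem Yn_le : Yn P D ≤ D := inf_le_left
theorem cm1 (hD : D ≤ C[D]) (hx : x ∈ D) (hy : y ∈ D) : ⁅x, y⁆ = 1 :=
  commutatorElement_eq_one_iff_mul_comm.2 (mem_cent.1 (hD hy) x hx)
theorem cmm (hD : D ≤ C[D]) (hx : x ∈ D) (hy : y ∈ D) : Commute x y := mem_cent.1 (hD hy) x hx

structure PR (P : Sylow 2 G) (D A : Subgroup G) (s : G) : Prop where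
  eD : Ess P D
  ne : D ≠ A
  lA : A ≤ N[D]
  sP : s ∈ (P : Subgroup G)
  s1 : cj s D = A
  s2 : cj s A = D

def R2 (D A : Subgroup G) : Prop := ∀ x ∈ D, ∀ y ∈ D, x ∉ A → y ∉ A → x * y ∈ A

theorem R2.cj (h : R2 D A) (g : G) : R2 (cj g D) (cj g A) := fun x hx y hy nx ny => by
  simpa [mem_cj, mul_assoc] using h _ (mem_cj.1 hx) _ (mem_cj.1 hy) (mt mem_cj.2 nx) (mt mem_cj.2 ny)

theorem Ess.pr (h : Ess P D) (hn : ¬ (P : Subgroup G) ≤ N[D]) : ∃ A s, PR P D A s := by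
  obtain ⟨s, hs, n⟩ := SetLike.exists_of_lt (nilpotent_proper_norm (pgroup_nil P.2) (H := Tn P D)
    (lt_of_le_not_ge inf_le_left fun l => hn (l.trans inf_le_right)))
  obtain ⟨j, n, m⟩ := exists_sq hs.1 n
  have hs := pow_mem hs j
  exact ⟨_, _, h, fun e => n ⟨hs.1, mem_norm.2 e.symm⟩, (cj_le_of_norm hs.2 h.leT).trans inf_le_right, hs.1, rfl,
    by rw [← cj_mul, cj_of_norm m.2]⟩

namespace PR
variable (h : PR P D A s)
include h
theorem eA : Ess P A := h.s1 ▸ h.eD.cj (normG _ h.sP)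
theorem symm : PR P A D s := ⟨h.eA, h.ne.symm, by have := cj_mono s h.lA; rwa [← N_cj, h.s1, h.s2] at this, h.sP, h.s2, h.s1⟩
theorem cj (hn : n ∈ N[(P : Subgroup G)]) : PR P (cj n D) (cj n A) (n * s * n⁻¹) :=
  ⟨h.eD.cj hn, fun e => h.ne (cj_inj.1 e), N_cj n D ▸ cj_mono n h.lA, conj_mem_of_norm hn h.sP,
    by rw [← cj_mul, inv_mul_cancel_right, cj_mul, h.s1], by rw [← cj_mul, inv_mul_cancel_right, cj_mul, h.s2]⟩
theorem r2s (r : R2 D A) : R2 A D := by have := r.cj s; rwa [h.s1, h.s2] at this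
theorem nle : ¬ A ≤ D := fun l => h.ne (h.eA.eq_of_le h.eD.ab h.eD.le l)
theorem cA (hd : d ∈ D) (hc : d ∈ C[A]) : d ∈ A := h.eA.sc ⟨h.eD.le hd, hc⟩
theorem lT : A ≤ Tn P D := le_inf h.eA.le h.lA
theorem cm (ha : a ∈ A) (hd : d ∈ D) : ⁅a, d⁆ ∈ D ∧ ⁅a, d⁆ ∈ A :=
  ⟨cm_mem (h.lA ha) hd, by rw [← commutatorElement_inv]; exact inv_mem (cm_mem (h.symm.lA hd) ha)⟩
theorem YA (hy : y ∈ Yn P D) : y ∈ A := h.cA (Yn_le hy) (centS h.lT (Yn_c hy))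
theorem ml (ha : a ∈ A) (hb : b ∈ A) (hd : d ∈ D) : ⁅a * b, d⁆ = ⁅a, d⁆ * ⁅b, d⁆ := by
  rw [cm_mul' (mem_cent1.2 (cmm h.eA.ab (h.cm hb hd).2 ha)), cmm h.eA.ab (h.cm hb hd).2 (h.cm ha hd).2]

variable (hU : UQ P)
include hU
theorem lp : ∃ g, LP P D A g := h.eD.lp hU h.lT ((commg_subr h.symm.lA).trans h.eA.ab) h.nle
  (Nat.mul_le_mul (by rw [← h.s1, card_cj]) (card_le_card (le_inf inf_le_right (inf_le_left.trans h.eA.ab))))
theorem eT : Tn P D = A ⊔ D := (h.lp hU).elim fun _ l => le_antisymm l.le (sup_le h.lT h.eD.leT)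
theorem eT' : Tn P A = Tn P D := by rw [h.eT hU, h.symm.eT hU, sup_comm]
theorem decT (ht : t ∈ Tn P D) : ∃ a ∈ A, ∃ d ∈ D, t = a * d := (mem_sup_normr h.lA).1 ((h.eT hU).le ht)
theorem cZ (h1 : z ∈ D) (h2 : z ∈ A) (ht : t ∈ Tn P D) : Commute t z := by
  obtain ⟨a, ha, d, hd, rfl⟩ := h.decT hU ht
  exact (cmm h.eA.ab ha h2).mul_left (cmm h.eD.ab hd h1)
theorem sN : s ∈ N[Tn P D] := mem_norm.2 (by rw [h.eT hU, cj_sup, h.s1, h.s2, sup_comm])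
theorem c3 (ha : a ∈ A) (hd : d ∈ D) (m : ⁅a, d⁆ ∈ Yn P D) : a ∈ D ∨ d ∈ A :=
  (h.lp hU).elim fun _ l => or_iff_not_imp_left.2 fun n => h.cA hd (l.c3 a ha n d hd m)

theorem sqD (hd : d ∈ D) : d * d ∈ A := by
  obtain ⟨a, ha, n⟩ := SetLike.not_le_iff_exists.1 h.nle
  obtain ⟨j, n, m⟩ := exists_sq (h.eA.le ha) n
  have ha := pow_mem ha j
  refine (h.c3 hU ha (mul_mem hd hd) ?_).resolve_left n
  rw [cm_mul h.eD.ab (h.lA ha) hd hd, ← h.ml ha ha hd, cm1 h.eD.ab m hd]; exact one_mem _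

theorem csq (ha : a ∈ A) (hd : d ∈ D) : ⁅a, d⁆ * ⁅a, d⁆ = 1 := by
  rw [← cm_mul h.eD.ab (h.lA ha) hd hd, cm1 h.eA.ab ha (h.sqD hU hd)]

theorem gen (hd : d ∈ D) (n : d ∉ A) (h1 : z ∈ D) (h2 : z ∈ A) : ∃ a ∈ A, ∃ y ∈ Yn P D, z = ⁅a, d⁆ * y :=
  (h.lp hU).elim fun _ l => (l.gen d hd (mt (h.cA hd) n) z ⟨h1, h.eA.ab h2⟩).imp fun a ⟨ha, m⟩ =>
    ⟨ha, _, inv_mem m, by group⟩

theorem dec (hd : d ∈ D) : ∃ z ∈ D, z ∈ A ∧ ∃ v ∈ D, v * v = 1 ∧ d = z * v := by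
  obtain ⟨g, l⟩ := h.lp hU
  obtain ⟨w, hw, n⟩ := SetLike.not_le_iff_exists.1 h.symm.nle
  obtain ⟨z, hz, _, hz0, rfl⟩ := (mem_sup_norml (cents_norm (centSS inf_le_left (cj_le_of_norm l.hH inf_le_left)
    h.eD.ab))).1 (l.sup hd)
  obtain ⟨z', hz', rfl⟩ := mem_cj'.1 hz0
  obtain ⟨a, ha, y, hy, rfl⟩ := h.gen hU hw n hz'.1 (h.cA hz'.1 hz'.2)
  have m := conj_mem_of_norm (norm_Yn l.hH) hy
  have m' := conj_mem_of_norm l.hH (h.cm ha hw).1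
  exact ⟨_, mul_mem hz.1 (Yn_le m), mul_mem (h.cA hz.1 hz.2) (h.YA m), _, m', DD.sq_cj (h.csq hU ha hw) g,
    by rw [← conj_mul, cmm h.eD.ab m' (Yn_le m), ← mul_assoc z]⟩

theorem sqY (hd : d ∈ D) : d * d ∈ Yn P D := by
  obtain ⟨w, hw, n⟩ := SetLike.not_le_iff_exists.1 h.symm.nle
  obtain ⟨z, h1, h2, v, hv, e, rfl⟩ := h.dec hU hd
  obtain ⟨a, ha, y, hy, rfl⟩ := h.gen hU hw n h1 h2
  rw [← (cmm h.eD.ab h1 hv).mul_mul_mul_comm, e, mul_one, ← (cmm h.eD.ab (h.cm ha hw).1 (Yn_le hy)).mul_mul_mul_comm,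
    h.csq hU ha hw, one_mul]
  exact mul_mem hy hy

theorem invT (ht : t ∈ Tn P D) (e : t * t = 1) : t ∈ D ∨ t ∈ A := by
  obtain ⟨a, ha, d, hd, rfl⟩ := h.decT hU ht
  obtain ⟨z, z1, z2, v, hv, ev, rfl⟩ := h.symm.dec hU ha
  obtain ⟨y, y1, y2, u, hu, eu, rfl⟩ := h.dec hU hd
  have c := h.cZ hU (mul_mem z2 y1) (mul_mem z1 y2) (mul_mem (h.lT hv) (h.eD.leT hu))
  rw [← (cmm h.eA.ab y2 hv).mul_mul_mul_comm, ← c.symm.mul_mul_mul_comm] at e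
  have : ⁅v, u⁆ = (z * y * (z * y))⁻¹ := by
    rw [commutatorElement_def, inv_eq_of_mul_eq_one_right ev, inv_eq_of_mul_eq_one_right eu, mul_assoc]
    exact eq_inv_of_mul_eq_one_right e
  exact (h.c3 hU hv hu (this ▸ inv_mem (h.sqY hU (mul_mem z2 y1)))).imp (fun m => mul_mem (mul_mem z2 m) hd)
    fun m => mul_mem ha (mul_mem y2 m)

theorem nprod (ha : a ∈ A) (n1 : a ∉ D) (hd : d ∈ D) (n2 : d ∉ A) : a * d * (a * d) ≠ 1 := fun e =>
  (h.invT hU (mul_mem (h.lT ha) (h.eD.leT hd)) e).elim (fun m => n1 ((mul_mem_cancel_right hd).1 m))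
    fun m => n2 ((mul_mem_cancel_left ha).1 m)

theorem cen (hd : d ∈ D) (n : d ∉ A) (hp : p ∈ (P : Subgroup G)) (c : Commute p d) : p ∈ D := by
  refine (nilpotent_sub_norm (M := (P : Subgroup G) ⊓ C1[d]) (pgroup_nil (P.2.to_le inf_le_left))
    (le_inf h.eD.le (h.eD.ab.trans (cent_le_cent1 hd))) fun t ht => ?_).ge ⟨hp, mem_cent1.2 c⟩
  obtain ⟨a, ha, x, hx, rfl⟩ := h.decT hU ⟨ht.1.1, ht.2⟩
  refine mul_mem ((h.c3 hU ha hd ?_).resolve_right n) hx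
  rw [commutatorElement_eq_one_iff_mul_comm.2 (mem_cent1.1 ((mul_mem_cancel_right (cent_le_cent1 hd (h.eD.ab hx))).1
    ht.1.2))]
  exact one_mem _

theorem nrm (hd : d ∈ D) (n : d ∉ A) (hp : p ∈ (P : Subgroup G)) (c : Commute (p * d * p⁻¹) d) : p ∈ Tn P D := by
  have k := h.cj (normG _ hp)
  refine ⟨hp, mem_norm.2 (eq_of_card_le (fun x hx => k.cen hU (conj_mem_cj p hd) (mt conj_mem_cj_iff.1 n) (h.eD.le hx)
    (cmm h.eD.ab hx (h.cen hU hd n (conj_mem_of_norm (normG _ hp) (h.eD.le hd)) c))) (card_cj _ _).le).symm⟩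

theorem exw : ∃ w ∈ D, w ∉ A ∧ w * w = 1 := by
  obtain ⟨w, hw, n⟩ := SetLike.not_le_iff_exists.1 h.symm.nle
  obtain ⟨z, -, h2, v, hv, e, rfl⟩ := h.dec hU hw
  exact ⟨v, hv, fun m => n (mul_mem h2 m), e⟩

theorem perm (hp : p ∈ N[Tn P D]) : BG.cj p D = D ∨ BG.cj p D = A := by
  obtain ⟨w, hw, n, e⟩ := h.exw hU
  have k : ¬ (p * w * p⁻¹ ∈ D ∧ p * w * p⁻¹ ∈ A) := fun m => n (h.cA hw (mem_cent.2 fun a ha =>
    DD.comm_of_cj (h.cZ hU m.1 m.2 (conj_mem_of_norm hp (h.lT ha)))))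
  have k2 : ∀ x ∈ BG.cj p D, x ∈ (P : Subgroup G) ∧ Commute x (p * w * p⁻¹) := fun x hx => by
    obtain ⟨d, hd, rfl⟩ := mem_cj'.1 hx
    exact ⟨(conj_mem_of_norm hp (h.eD.leT hd)).1, DD.comm_cj (cmm h.eD.ab hd hw) p⟩
  refine (h.invT hU (conj_mem_of_norm hp (h.eD.leT hw)) (DD.sq_cj e p)).imp (fun m => eq_of_card_le
    (fun x hx => h.cen hU m (fun m' => k ⟨m, m'⟩) (k2 x hx).1 (k2 x hx).2) (card_cj _ _).ge) fun m => eq_of_card_le
    (fun x hx => h.symm.cen hU m (fun m' => k ⟨m', m⟩) (k2 x hx).1 (k2 x hx).2) (by rw [← h.s1, card_cj, card_cj])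

theorem swap (hp : p ∈ (P : Subgroup G)) (m : p ∈ N[Tn P D]) (n : p ∉ Tn P D) : PR P D A p :=
  ⟨h.eD, h.ne, h.lA, hp, (h.perm hU m).resolve_left fun e => n ⟨hp, mem_norm.2 e⟩,
    (h.symm.perm hU (by rwa [h.eT' hU])).resolve_left fun e => n ((h.eT' hU).le ⟨hp, mem_norm.2 e⟩)⟩

omit hU in
theorem out (hd : d ∈ D) (n : d ∉ A) : s * d * s⁻¹ ∈ A ∧ s * d * s⁻¹ ∉ D :=
  ⟨h.s1 ▸ conj_mem_cj s hd, fun m => n (conj_mem_cj_iff.1 (h.s2.ge m))⟩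

omit hU in
theorem mulT (k : PR P D A p) : s * p ∈ Tn P D := ⟨mul_mem h.sP k.sP, mem_norm.2 (by rw [cj_mul, k.s1, h.s2])⟩

theorem nn (hE : Ess P E) : ¬ (P : Subgroup G) ≤ N[E] := fun l => by
  obtain ⟨w, hw, n, e⟩ := h.exw hU
  have ab := abelian_of_cent hE.ab
  have k0 : ∀ x ∈ Ω 2 E, x * x = 1 := fun x hx => by rw [← sq]; exact ((mem_Ohm1_abelian ab).1 hx).2
  have l' := norms_Ohm 2 l
  have k1 : Ω 2 E ≤ Tn P D := le_sup_left.trans (nilpotent_sub_norm (M := Ω 2 E ⊔ Tn P D) (pgroup_nil (P.2.to_le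
    (sup_le ((Ohm_sub 2 E).trans hE.le) inf_le_left))) le_sup_right fun x hx => by
      obtain ⟨u, hu, t, ht, rfl⟩ := (mem_sup_norml (inf_le_left.trans l')).1 hx.1
      refine mul_mem (by_contra fun q => ?_) ht
      have k := (h.swap hU (hE.le (Ohm_sub _ _ hu)) ((mul_mem_cancel_right (normG _ ht)).1 hx.2) q).out hw n
      refine h.nprod hU k.1 k.2 hw n (k0 _ ?_)
      have := mul_mem hu (conj_mem_of_norm (l' (h.eD.le hw)) (inv_mem hu))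
      rwa [inv_eq_of_mul_eq_one_right e, ← mul_assoc, ← mul_assoc] at this).ge
  have k2 : ∀ D A, PR P D A s → ∀ u ∈ Ω 2 E, u ∈ D → u ∈ A := fun D A h u hu m => by_contra fun q =>
    h.nprod hU (h.out m q).1 (h.out m q).2 m q (k0 _ (mul_mem (conj_mem_of_norm (l' h.sP) hu) hu))
  have k3 : Tn P D ≤ E := fun t ht => hE.faith hU ⟨ht.1, l ht.1⟩ fun d hd e => by
    have m := mem_Ohm1 hd ((sq d).trans e)
    rcases h.invT hU (k1 m) e with q | q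
    exacts [(h.cZ hU q (k2 _ _ h d m q) ht).symm, (h.cZ hU (k2 _ _ h.symm d m q) q ht).symm]
  exact h.eD.nab (centSS (h.eD.leT.trans k3) k3 hE.ab)

theorem notT (k : PR P E B s') (l : E ≤ N[Tn P D]) (nl : ¬ E ≤ Tn P D) (hv : v ∈ E) (m : v ∈ Tn P D) (e : v * v = 1) :
    v ∈ B := by_contra fun q => by
  obtain ⟨x, hx, n⟩ := SetLike.not_le_iff_exists.1 nl
  have k1 := h.swap hU (k.eD.le hx) (l hx) n
  have e1 : x * v * x⁻¹ = v := conj_eq_of_cent (k.eD.ab hx) hv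
  have : v ∈ D ∧ v ∈ A := (h.invT hU m e).elim (fun m => ⟨m, by_contra fun q => q (e1 ▸ (k1.out m q).1)⟩)
    fun m => ⟨by_contra fun q => q (e1 ▸ (k1.symm.out m q).1), m⟩
  have k3 : Tn P D ≤ E := fun t ht => k.cen hU hv q ht.1 (h.cZ hU this.1 this.2 ht)
  exact h.eD.nab (centSS (h.eD.leT.trans k3) k3 k.eD.ab)

theorem three (r : ¬ R2 D A) : ∃ u ∈ D, ∃ v ∈ D, u ∉ A ∧ v ∉ A ∧ u * v ∉ A ∧ u * u = 1 ∧ v * v = 1 := by
  simp only [R2, not_forall] at r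
  obtain ⟨x, hx, y, hy, n1, n2, n3⟩ := r
  obtain ⟨z, -, z2, u, hu, eu, rfl⟩ := h.dec hU hx
  obtain ⟨y, y1, y2, v, hv, ev, rfl⟩ := h.dec hU hy
  exact ⟨u, hu, v, hv, fun m => n1 (mul_mem z2 m), fun m => n2 (mul_mem y2 m), fun m => n3
    (by rw [← (cmm h.eD.ab y1 hu).mul_mul_mul_comm]; exact mul_mem (mul_mem z2 y2) m), eu, ev⟩

theorem inT (k : PR P E B s') (l : E ≤ N[Tn P D]) (r : ¬ R2 E B) : E ≤ Tn P D := by_contra fun nl => by
  obtain ⟨u, hu, v, hv, n1, n2, n3, e1, e2⟩ := k.three hU r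
  exact n3 (h.notT hU k l nl (mul_mem hu hv) ((h.swap hU (k.eD.le hu) (l hu) fun m => n1 (h.notT hU k l nl hu m e1)).mulT
    (h.swap hU (k.eD.le hv) (l hv) fun m => n2 (h.notT hU k l nl hv m e2)))
    (by rw [← (cmm k.eD.ab hu hv).mul_mul_mul_comm, e1, e2, one_mul]))
end PR

/-- `c` generates `[T, D]`. -/
structure CC (P : Sylow 2 G) (D : Subgroup G) (c : G) : Prop where
  sq : c * c = 1
  nY : c ∉ Yn P D
  mem : c ∈ D
  cm : ∀ t ∈ Tn P D, ∀ d ∈ D, ⁅t, d⁆ = 1 ∨ ⁅t, d⁆ = c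

theorem PR.cc (h : PR P D A s) (hU : UQ P) (r : R2 D A) : ∃ c, CC P D c := by
  obtain ⟨w, hw, n, -⟩ := h.exw hU
  obtain ⟨a, ha, n', -⟩ := h.symm.exw hU
  refine ⟨⁅a, w⁆, h.csq hU ha hw, fun m => (h.c3 hU ha hw m).elim n' n, (h.cm ha hw).1, fun t ht d hd => ?_⟩
  obtain ⟨b, hb, x, hx, rfl⟩ := h.decT hU ht
  rw [cm_mul' (by rw [cm1 h.eD.ab hx hd]; exact one_mem _), cm1 h.eD.ab hx hd, one_mul]
  by_cases q : b ∈ D
  · exact .inl (cm1 h.eD.ab q hd)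
  by_cases q' : d ∈ A
  · exact .inl (cm1 h.eA.ab hb q')
  have e1 := h.ml hb ha hd
  have e2 := cm_mul h.eD.ab (h.lA ha) hd hw
  rw [cm1 h.eD.ab (h.r2s r b hb a ha q n') hd] at e1
  rw [cm1 h.eA.ab ha (r d hd w hw q' n)] at e2
  exact .inr ((eq_inv_of_mul_eq_one_left e1.symm).trans (inv_eq_of_mul_eq_one_right e2.symm))

theorem PR.r2 (h : PR P D A s) (hU : UQ P) (nab : ¬ (P : Subgroup G) ≤ C[(P : Subgroup G)])
    (hG : ⁅(⊤ : Subgroup G), (⊤ : Subgroup G)⁆ = ⊤) : R2 D A := by_contra fun r => by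
  have r' : ¬ R2 A D := fun q => r (h.symm.r2s q)
  have nT : ∀ n, BG.cj n D ≤ Tn P D → BG.cj n A ≤ Tn P D → n ∈ N[Tn P D] := fun n l1 l2 =>
    mem_norm_of_cj_le (by nth_rw 1 [h.eT hU]; rw [cj_sup]; exact sup_le l2 l1)
  have rc : ∀ {D A : Subgroup G} (n : G), ¬ R2 D A → ¬ R2 (BG.cj n D) (BG.cj n A) := fun n r q => r (by
    simpa [← cj_mul, cj_one] using q.cj n⁻¹)
  have lP : (P : Subgroup G) ≤ N[Tn P D] := (nilpotent_sub_norm (pgroup_nil P.2) inf_le_left fun p hp => by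
    have k : ∀ X ≤ Tn P D, BG.cj p X ≤ N[Tn P D] := fun X l =>
      (cj_le_of_norm hp.2 (le_inf (l.trans inf_le_left) (l.trans (normG _)))).trans inf_le_right
    exact ⟨hp.1, nT p (h.inT hU (h.cj (normG _ hp.1)) (k _ h.eD.leT) (rc p r))
      (h.inT hU (h.symm.cj (normG _ hp.1)) (k _ h.lT) (rc p r'))⟩).ge.trans inf_le_right
  have lE : ∀ E, Ess P E → E ≤ Tn P D := fun E hE => by_contra fun nl => by
    obtain ⟨B, s', k⟩ := hE.pr (h.nn hU hE)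
    obtain ⟨c, hc⟩ := k.cc hU (by_contra fun q => nl (h.inT hU k (hE.le.trans lP) q))
    obtain ⟨w, hw, n, e⟩ := k.exw hU
    have j := h.swap hU (hE.le hw) (lP (hE.le hw)) fun m => n (h.notT hU k (hE.le.trans lP) nl hw m e)
    have wi := inv_eq_of_mul_eq_one_right e
    have cw : ∀ x, w * (w * x) = x := fun x => by rw [← mul_assoc, e, one_mul]
    have f1 : ∀ u v, w * ⁅w * u * w⁻¹, v⁆ * w⁻¹ = ⁅w * v * w⁻¹, u⁆⁻¹ := fun u v => by
      simp only [commutatorElement_def, mul_inv_rev, inv_inv, wi, mul_assoc, cw]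
    have f2 : ∀ v ∈ D, v ∉ A → v * v = 1 → ⁅w * v * w⁻¹, v⁆ = c := fun v hv q ev => by
      have o := j.out hv q
      have vi := inv_eq_of_mul_eq_one_right ev
      have e1 : ⁅w * v * w⁻¹ * v, w⁆ = ⁅w * v * w⁻¹, v⁆ := by
        simp only [commutatorElement_def, mul_inv_rev, inv_inv, wi, vi, mul_assoc, cw, e, mul_one]
      refine (e1 ▸ hc.cm _ (k.nrm hU hw n (mul_mem (h.eA.le o.1) (h.eD.le hv)) ?_) w hw).resolve_left fun e2 =>
        (h.c3 hU o.1 hv (e2 ▸ one_mem _)).elim o.2 q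
      have e3 := f1 v v
      rw [inv_eq_of_mul_eq_one_right (h.csq hU o.1 hv), mul_inv_eq_iff_eq_mul] at e3
      rw [← mul_inv_cancel_right (w * v * w⁻¹ * v * w * _) w⁻¹, ← commutatorElement_def, e1, inv_inv]
      exact (Commute.symm e3).mul_left (Commute.refl w)
    obtain ⟨u, hu, v, hv, n1, n2, n3, e1, e2⟩ := h.three hU r
    have ou := (j.out hu n1).1
    have ov := (j.out hv n2).1
    have e3 := f2 _ (mul_mem hu hv) n3 (by rw [← (cmm h.eD.ab hu hv).mul_mul_mul_comm, e1, e2, one_mul])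
    rw [← conj_mul, h.ml ou ov (mul_mem hu hv), cm_mul h.eD.ab (h.lA ou) hu hv, cm_mul h.eD.ab (h.lA ov) hu hv,
      f2 u hu n1 e1, f2 v hv n2 e2, mul_assoc, mul_eq_left, ← mul_assoc, mul_eq_one_iff_eq_inv,
      inv_eq_of_mul_eq_one_right hc.sq] at e3
    have e4 := f1 u v
    have e5 := f2 u hu n1 e1
    have e6 := h.csq hU ou hv
    have z := h.cm ou hv
    set x := ⁅w * u * w⁻¹, v⁆
    rw [eq_inv_mul_iff_mul_eq.2 e3, mul_inv_rev, inv_inv, inv_eq_of_mul_eq_one_right hc.sq] at e4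
    have ui := inv_eq_of_mul_eq_one_right e1
    have tT := mul_mem (h.lT ou) (h.eD.leT hu)
    have e7 : w * u * w⁻¹ * u * (w * u * w⁻¹ * u) = c := by
      rw [← e5]; simp only [commutatorElement_def, mul_inv_rev, inv_inv, wi, ui, mul_assoc]
    have m : w * u * w⁻¹ * u * x ∈ E := k.cen hU hw n (mul_mem tT.1 (h.eD.le z.1)) (Commute.symm (by
      show _ = _
      rw [← mul_inv_eq_iff_eq_mul, ← conj_mul, e4, ← e7]
      simp only [wi, mul_assoc, cw, show ∀ x, u * (u * x) = x from fun x => by rw [← mul_assoc, e1, one_mul]]))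
    have := k.sqY hU m
    rw [← (h.cZ hU z.1 z.2 tT).mul_mul_mul_comm, e7, e6, mul_one] at this
    exact hc.nY this
  have := foc (F := Tn P D) hU nab hG (fun n hn a ha => by
    have m := nT n (lE _ (h.eD.cj hn)) (lE _ (h.eA.cj hn))
    by_cases q : a ∈ Tn P D
    · exact mul_mem (conj_mem_of_norm m q) (inv_mem q)
    have m1 := conj_mem_of_norm hn ha
    exact (h.swap hU m1 (lP m1) (mt (conj_mem_iff_of_norm m).1 q)).mulT
      (h.swap hU (inv_mem ha) (lP (inv_mem ha)) (mt inv_mem_iff.1 q)))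
    fun E hE g hg x hx a ha => lE E hE (cm_mem (cj_le_of_mem hg inf_le_right hx) ha)
  exact h.ne ((cj_of_norm (this h.sP).2).symm.trans h.s1)

end Cfsg.Agent.ASI
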